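import Groth.Agent.NewIntersectLib.Regular
import Groth.Agent.CommAlgDim.DepthBounds

/-! `Ext²` between modules with disjoint supports over a planar curve singularity. -/

set_option autoImplicit false
set_option linter.style.haveILetI false
universe u

open CategoryTheory IsLocalRing

namespace PlanarExtLib

theorem subsingleton_ext_succ {R : Type u} [CommRing R] {F M N : Type u} [AddCommGroup F] [Module R F]
    [AddCommGroup M] [Module R M] [AddCommGroup N] [Module R N] [Module.Projective R F]
    (g : F →ₗ[R] M) (hg : Function.Surjective g) (n : ℕ)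
    (h : Subsingleton (Abelian.Ext (ModuleCat.of R (LinearMap.ker g)) (ModuleCat.of R N) n)) :
    Subsingleton (Abelian.Ext (ModuleCat.of R M) (ModuleCat.of R N) (n + 1)) := by
  haveI : Projective (ModuleCat.of R F) := (IsProjective.iff_projective F).1 ‹_›
  refine subsingleton_of_forall_eq 0 fun x => ?_
  obtain ⟨y, hy⟩ := Abelian.Ext.contravariant_sequence_exact₃
    (LinearMap.shortExact_shortComplexKer hg) (ModuleCat.of R N) x
    (Abelian.Ext.eq_zero_of_projective _) (n₀ := n) (by omega)
  rw [← hy, show y = 0 from @Subsingleton.elim _ h y 0, Abelian.Ext.comp_zero]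

/-- The regular local ring of dimension two sees the module through a square presentation. -/
theorem exists_presentation (S : Type u) [CommRing S] [IsRegularLocalRing S] (hS : ringKrullDim S = 2)
    (M : Type u) [AddCommGroup M] [Module S M] [Module.Finite S M] [Nontrivial M] {x : S}
    (hx : x ∈ maximalIdeal S) (hxM : IsSMulRegular M x) :
    ∃ (l : ℕ) (g : (Fin l → S) →ₗ[S] M), Function.Surjective g ∧
      Module.Free S (LinearMap.ker g) := by
  obtain ⟨d, hd⟩ := Groth.Agent.NewIntersectLib.exists_depth (A := S)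
  obtain ⟨-, hpd⟩ := Groth.Agent.NewIntersectLib.pdlt_depth M hd _
    (CommAlgDim.pdlt_of_isRegularLocalRing S M) hx hxM
  have hd2 : d ≤ 2 := by
    obtain ⟨P, hP⟩ := associatedPrimes.nonempty S S
    have h := CommAlgDim.depth_le_ringKrullDim_quotient hP
      ((CommAlgDim.le_depth_iff d).1 hd.ge)
    have h2 := h.trans ((ringKrullDim_quotient_le P).trans hS.le)
    exact_mod_cast h2
  obtain ⟨l, g, hg⟩ := Module.Finite.exists_fin' S M
  have h1 : CommAlgDim.PDLT S (LinearMap.ker g) 1 :=
    (CommAlgDim.pdlt_ker_iff g hg 0).1 (hpd.mono hd2)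
  haveI := CommAlgDim.pdlt_one_iff.1 h1
  exact ⟨l, g, hg, Module.free_of_flat_of_isLocalRing⟩

/-- Pushing a matrix forward commutes with evaluation. -/
theorem map_mulVec {S R : Type u} [CommRing S] [CommRing R] (π : S →+* R) {m n : Type*} [Fintype n]
    (A : Matrix m n S) (v : n → S) : π ∘ A.mulVec v = (A.map π).mulVec (π ∘ v) :=
  funext fun i => π.map_mulVec A v i

theorem exists_smul_of_comp_eq_zero {S R : Type*} [CommRing S] [CommRing R] {π : S →+* R} {f : S}
    (hker : RingHom.ker π = Ideal.span {f}) {κ : Type*} (v : κ → S) (hv : π ∘ v = 0) :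
    ∃ w : κ → S, v = f • w := by
  choose w hw using fun i => Ideal.mem_span_singleton.1
    ((SetLike.ext_iff.1 hker (v i)).1 (congrFun hv i))
  exact ⟨w, funext hw⟩

theorem exists_comp_eq {S R : Type*} [CommRing S] [CommRing R] {π : S →+* R}
    (hπ : Function.Surjective π) {κ : Type*} (v : κ → R) : ∃ w : κ → S, π ∘ w = v := by
  choose w hw using fun i => hπ (v i)
  exact ⟨w, funext hw⟩

theorem comp_smul_eq_zero {S R : Type*} [CommRing S] [CommRing R] {π : S →+* R} {f : S}
    (hker : RingHom.ker π = Ideal.span {f}) {κ : Type*} (w : κ → S) : π ∘ (f • w) = 0 := by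
  funext i
  show π (f * w i) = 0
  rw [map_mul, show π f = 0 from (SetLike.ext_iff.1 hker f).2 (Ideal.mem_span_singleton_self f), zero_mul]

theorem main {S R : Type u} [CommRing S] [IsRegularLocalRing S] (hS : ringKrullDim S = 2) {f : S}
    (hf : f ≠ 0) [CommRing R] [IsLocalRing R] (π : S →+* R) (hπ : Function.Surjective π)
    (hker : RingHom.ker π = Ideal.span {f}) (I J : Ideal R) (n : ℕ) (hIJ : maximalIdeal R ^ n ≤ I ⊔ J)
    (M N : Type u) [AddCommGroup M] [Module R M] [Module.Finite R M] [AddCommGroup N] [Module R N]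
    (hI : I ≤ Module.annihilator R M) (hJ : J ≤ Module.annihilator R N)
    (x : R) (hx : x ∈ maximalIdeal R) (hxM : IsSMulRegular M x)
    (y : R) (hy : y ∈ maximalIdeal R) (hyN : IsSMulRegular N y) :
    Subsingleton (Abelian.Ext (ModuleCat.of R M) (ModuleCat.of R N) 2) := by
  classical
  have hHom : ∀ h : M →ₗ[R] N, h = 0 := by
    intro h
    refine LinearMap.ext fun m => (hyN.pow n) ?_
    show y ^ n • h m = y ^ n • (0 : N)
    obtain ⟨a, ha, b, hb, hab⟩ := Submodule.mem_sup.1 (hIJ (Ideal.pow_mem_pow hy n))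
    rw [← hab, smul_zero, add_smul, ← h.map_smul, Module.mem_annihilator.1 (hI ha),
      Module.mem_annihilator.1 (hJ hb), map_zero, add_zero]
  rcases subsingleton_or_nontrivial M with hM | hM
  · haveI : Limits.HasZeroObject (ModuleCat.{u} R) := inferInstance
    have hz : Limits.IsZero (ModuleCat.of R M) := ModuleCat.isZero_of_subsingleton _
    refine subsingleton_of_forall_eq 0 fun z => ?_
    haveI := hz.projective
    exact Abelian.Ext.eq_zero_of_projective z
  letI : Algebra S R := π.toAlgebra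
  letI : Module S M := Module.compHom M π
  haveI : IsScalarTower S R M := IsScalarTower.of_algebraMap_smul fun _ _ => rfl
  haveI : Module.Finite S R := Module.Finite.of_surjective (Algebra.linearMap S R) hπ
  haveI : Module.Finite S M := Module.Finite.trans R M
  obtain ⟨x₀, rfl⟩ := hπ x
  have hx₀ : x₀ ∈ maximalIdeal S := fun hu => hx (hu.map π)
  have hx₀M : IsSMulRegular M x₀ := fun a b h => hxM h
  obtain ⟨l, g, hg, hfree⟩ := exists_presentation S hS M hx₀ hx₀M
  let ι := Module.Free.ChooseBasisIndex S (LinearMap.ker g)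
  let bK := Module.Free.chooseBasis S (LinearMap.ker g)
  let φ : (ι → S) →ₗ[S] (Fin l → S) := (LinearMap.ker g).subtype.comp bK.equivFun.symm.toLinearMap
  have hφinj : Function.Injective φ := Subtype.val_injective.comp bK.equivFun.symm.injective
  have hfM : ∀ m : M, f • m = 0 := fun m => by
    show π f • m = 0
    rw [show π f = 0 from (SetLike.ext_iff.1 hker f).2 (Ideal.mem_span_singleton_self f), zero_smul]
  have hfker : ∀ v : Fin l → S, f • v ∈ LinearMap.ker g := fun v => by
    rw [LinearMap.mem_ker, map_smul, hfM]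
  let ψ : (Fin l → S) →ₗ[S] (ι → S) :=
    bK.equivFun.toLinearMap.comp ((f • LinearMap.id (R := S) (M := Fin l → S)).codRestrict _ hfker)
  have hφψ : ∀ v, φ (ψ v) = f • v := fun v => by
    show ((bK.equivFun.symm (bK.equivFun ⟨f • v, hfker v⟩) : LinearMap.ker g) : Fin l → S) = f • v
    rw [LinearEquiv.symm_apply_apply]
  have hψφ : ∀ v, ψ (φ v) = f • v := fun v => hφinj (by rw [hφψ, map_smul])
  have hreg : Function.Injective ψ := by
    intro v w h
    have h2 := congrArg φ h
    rw [hφψ, hφψ] at h2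
    haveI : IsDomain S := CommAlgDim.isDomain_of_isRegularLocalRing S
    exact funext fun i => mul_left_cancel₀ hf (congrFun h2 i)
  have hrange : LinearMap.range φ = LinearMap.ker g := by
    rw [LinearMap.range_comp_of_range_eq_top _ (LinearEquiv.range _), Submodule.range_subtype]
  let A := LinearMap.toMatrix' φ
  let B := LinearMap.toMatrix' ψ
  let φ' : (ι → R) →ₗ[R] (Fin l → R) := Matrix.toLin' (A.map π)
  let ψ' : (Fin l → R) →ₗ[R] (ι → R) := Matrix.toLin' (B.map π)
  have hφ' : ∀ v, φ' (π ∘ v) = π ∘ φ v := fun v => by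
    show Matrix.toLin' (A.map π) (π ∘ v) = _
    rw [Matrix.toLin'_apply, ← map_mulVec, ← Matrix.toLin'_apply, Matrix.toLin'_toMatrix']
  have hψ' : ∀ v, ψ' (π ∘ v) = π ∘ ψ v := fun v => by
    show Matrix.toLin' (B.map π) (π ∘ v) = _
    rw [Matrix.toLin'_apply, ← map_mulVec, ← Matrix.toLin'_apply, Matrix.toLin'_toMatrix']
  -- the augmentation
  let g' : (Fin l → R) →ₗ[R] M := Fintype.linearCombination R fun i => g (Pi.single i 1)
  have hg' : ∀ v : Fin l → S, g' (π ∘ v) = g v := fun v => by
    show Fintype.linearCombination R _ _ = _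
    rw [Fintype.linearCombination_apply]
    conv_rhs => rw [pi_eq_sum_univ' v, map_sum]
    exact Finset.sum_congr rfl fun i _ => by rw [map_smul]; rfl
  have hg's : Function.Surjective g' := fun m => by
    obtain ⟨v, rfl⟩ := hg m
    exact ⟨_, hg' v⟩
  have e1 : LinearMap.range φ' = LinearMap.ker g' := by
    ext v
    constructor
    · rintro ⟨w, rfl⟩
      obtain ⟨w, rfl⟩ := exists_comp_eq hπ w
      rw [LinearMap.mem_ker, hφ', hg']
      exact (SetLike.ext_iff.1 hrange (φ w)).1 ⟨w, rfl⟩
    · intro hv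
      obtain ⟨v, rfl⟩ := exists_comp_eq hπ v
      rw [LinearMap.mem_ker, hg'] at hv
      obtain ⟨w, hw⟩ := (SetLike.ext_iff.1 hrange v).2 hv
      exact ⟨π ∘ w, by rw [hφ', hw]⟩
  have e2 : LinearMap.range ψ' = LinearMap.ker φ' := by
    ext v
    constructor
    · rintro ⟨w, rfl⟩
      obtain ⟨w, rfl⟩ := exists_comp_eq hπ w
      rw [LinearMap.mem_ker, hψ', hφ', hφψ, comp_smul_eq_zero hker]
    · intro hv
      obtain ⟨v, rfl⟩ := exists_comp_eq hπ v
      rw [LinearMap.mem_ker, hφ'] at hv
      obtain ⟨w, hw⟩ := exists_smul_of_comp_eq_zero hker _ hv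
      exact ⟨π ∘ w, by rw [hψ', hφinj (show φ (ψ w) = φ v by rw [hφψ, hw])]⟩
  have e3 : LinearMap.range φ' = LinearMap.ker ψ' := by
    ext v
    constructor
    · rintro ⟨w, rfl⟩
      obtain ⟨w, rfl⟩ := exists_comp_eq hπ w
      rw [LinearMap.mem_ker, hφ', hψ', hψφ, comp_smul_eq_zero hker]
    · intro hv
      obtain ⟨v, rfl⟩ := exists_comp_eq hπ v
      rw [LinearMap.mem_ker, hψ'] at hv
      obtain ⟨w, hw⟩ := exists_smul_of_comp_eq_zero hker _ hv
      exact ⟨π ∘ w, by rw [hφ', hreg (show ψ (φ w) = ψ v by rw [hψφ, hw])]⟩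
  -- the two syzygies
  let q : (ι → R) →ₗ[R] LinearMap.ker g' :=
    φ'.codRestrict _ fun v => (SetLike.ext_iff.1 e1 _).1 ⟨v, rfl⟩
  have hq : Function.Surjective q := fun z => by
    obtain ⟨w, hw⟩ := (SetLike.ext_iff.1 e1 (z : Fin l → R)).2 z.2
    exact ⟨w, Subtype.ext hw⟩
  let e : M ≃ₗ[R] LinearMap.ker q :=
    (((g'.quotKerEquivOfSurjective hg's).symm.trans
      (Submodule.quotEquivOfEq _ _ (e1.symm.trans e3))).trans ψ'.quotKerEquivRange).trans
      (LinearEquiv.ofEq _ _ (e2.trans (LinearMap.ker_codRestrict _ _ _).symm))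
  refine subsingleton_ext_succ g' hg's 1 (subsingleton_ext_succ q hq 0 ?_)
  refine Abelian.Ext.addEquiv₀.toEquiv.subsingleton_congr.2 ⟨fun a b => ?_⟩
  refine ModuleCat.hom_ext (LinearMap.ext fun v => ?_)
  obtain ⟨m, rfl⟩ := e.surjective v
  exact (LinearMap.congr_fun (hHom (a.hom.comp e.toLinearMap)) m).trans
    (LinearMap.congr_fun (hHom (b.hom.comp e.toLinearMap)) m).symm

end PlanarExtLib
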